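import Cfsg.Agent.Lib.Sporadic.PairEnum.Sound

set_option autoImplicit false
set_option maxRecDepth 20000

/-! Generated certificate: cosets of <> in <ds> (tools/cosetbound/gen_pairs.py; generated; owner: helper9). -/

namespace CfsgLib.Sporadic.ThPres.SubDS
open CfsgLib.Recog.SporBound (Q)

noncomputable def ft0 : Q (ℕ) := (.leaf 0xa0000d10000a0000d00000c0000d20000b0000c00000b0000c10000a0000b2000060000910000600009000007000080000070000810000200005100002000050000030000400000300004100000000011000090000d3000080000c2000070000b3000060000a2000050000930000400008200003000073000020000620000100005300001000042000000000330000000002200000000010)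
noncomputable def ct0 : Q (ℕ) := (.leaf 0xb0000d0000c000070000a000090000800003000060000500004000020000100000)
noncomputable def st0 : Q (List ℕ) := (.leaf [0x1000010000000003, 0x200000000030000000003000040000100005, 0xe0000000001000040000000000, 0x10000d000040000000003000050000000002, 0x100000000001000050000000003, 0x60000f000070000000003000080000100005, 0x120000000001000080000000000, 0x500011000080000000003000090000000002, 0x140000000001000090000000003, 0x9000050000100002000060000a00000000060000b0000000001, 0xa000130000b00000000030000c0000100005, 0x1700000000010000c0000000000, 0xb000070000300004000080000c00000000060000d0000000001, 0x9000150000c00000000030000d0000000002, 0x1a00000000010000d0000000003])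
noncomputable def et0 : Q (List ℕ) := (.leaf [0x100001, 0x10000100002, 0xd0000100000, 0x30000100003, 0x100000100004, 0x50000100005, 0xe0000100006, 0x70000100007, 0x110000100002, 0x40000100001, 0x140000100008, 0x90000100009, 0xf0000100003, 0x20000100000, 0x12000010000a, 0xb000010000b, 0x150000100005, 0x80000100004, 0x1a000010000c, 0x16000010000d, 0x130000100007, 0x60000100006, 0x17000010000d, 0x19000010000c, 0x1b0000100009, 0xc0000100008, 0x18000010000b, 0xa000010000a])

end CfsgLib.Sporadic.ThPres.SubDS
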